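/-
Central extensions.
* `commutator_le_of_mul_center` : if every element lies in `K * Z(G)` then `G' ≤ [K, K]`
* `finite_commutator_of_ker_le_center` : Schur: a central extension of a finite group has finite derived group
* `isPerfect_of_mul_center`
-/
import Cfsg.Agent.EqLemmas

open scoped commutatorElement

namespace Cfsg.Agent.CentralExt

variable {G Q : Type*} [Group G] [Group Q]

theorem commutatorElement_mul_center {z w : G} (hz : z ∈ Subgroup.center G) (hw : w ∈ Subgroup.center G) (a b : G) :
    ⁅a * z, b * w⁆ = ⁅a, b⁆ := by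
  rw [commutatorElement_def, commutatorElement_def]
  calc a * z * (b * w) * (a * z)⁻¹ * (b * w)⁻¹
      = a * (z * b) * (w * z⁻¹) * a⁻¹ * w⁻¹ * b⁻¹ := by group
    _ = a * (b * z) * (w * z⁻¹) * a⁻¹ * w⁻¹ * b⁻¹ := by rw [← Subgroup.mem_center_iff.mp hz b]
    _ = a * b * ((z * w * z⁻¹) * a⁻¹) * w⁻¹ * b⁻¹ := by group
    _ = a * b * (w * a⁻¹) * w⁻¹ * b⁻¹ := by rw [Subgroup.mem_center_iff.mp hw z]; group
    _ = a * b * a⁻¹ * b⁻¹ := by rw [← Subgroup.mem_center_iff.mp hw a⁻¹]; group

theorem commutator_le_of_mul_center {K : Subgroup G} (h : ∀ g : G, ∃ k ∈ K, k⁻¹ * g ∈ Subgroup.center G) :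
    commutator G ≤ ⁅K, K⁆ := by
  rw [commutator_def, Subgroup.commutator_le]
  intro a _ b _
  obtain ⟨k, hk, hkz⟩ := h a
  obtain ⟨l, hl, hlz⟩ := h b
  have e : ⁅a, b⁆ = ⁅k, l⁆ := by
    conv_lhs => rw [← mul_inv_cancel_left k a, ← mul_inv_cancel_left l b]
    exact commutatorElement_mul_center hkz hlz k l
  rw [e]
  exact Subgroup.commutator_mem_commutator hk hl

theorem isPerfect_of_mul_center {K : Subgroup G} (h : ∀ g : G, ∃ k ∈ K, k⁻¹ * g ∈ Subgroup.center G)
    (hK : K = commutator G) : Group.IsPerfect K := by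
  have h1 := commutator_le_of_mul_center h
  rw [Group.isPerfect_def]
  apply Subgroup.map_injective (K.subtype_injective)
  rw [commutator_def, Subgroup.map_commutator, ← MonoidHom.range_eq_map, Subgroup.range_subtype]
  refine le_antisymm ?_ (le_trans hK.le h1)
  exact Subgroup.commutator_le_self K

/-- Schur: the derived group of a central extension of a finite group is finite. -/
theorem finite_commutator_of_ker_le_center [Finite Q] (f : G →* Q) (hker : f.ker ≤ Subgroup.center G) :
    Finite (commutator G) := by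
  haveI : Finite (commutatorSet G) := by
    classical
    let s : Q → G := fun q => if h : ∃ g, f g = q then h.choose else 1
    have hs : ∀ g, (s (f g))⁻¹ * g ∈ Subgroup.center G := by
      intro g
      refine hker ?_
      have h : ∃ g', f g' = f g := ⟨g, rfl⟩
      simp only [s, dif_pos h]
      rw [MonoidHom.mem_ker, map_mul, map_inv, h.choose_spec, inv_mul_cancel]
    refine Set.finite_coe_iff.mpr (Set.Finite.subset (Set.finite_range (fun q : Q × Q => ⁅s q.1, s q.2⁆)) ?_)
    rintro _ ⟨a, b, rfl⟩
    refine ⟨(f a, f b), ?_⟩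
    show ⁅s (f a), s (f b)⁆ = ⁅a, b⁆
    conv_rhs => rw [← mul_inv_cancel_left (s (f a)) a, ← mul_inv_cancel_left (s (f b)) b]
    exact (commutatorElement_mul_center (hs a) (hs b) _ _).symm
  infer_instance

end Cfsg.Agent.CentralExt
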